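import Groth.Agent.BorelLib.Facts
import Groth.Agent.BorelLib.RedPtsMore
import Groth.Agent.BorelLib.RedUnip

/-!
# Closed subgroups of `U ⋊ T` meeting `U` trivially
-/

set_option autoImplicit false
set_option linter.style.haveILetI false
set_option linter.unusedSectionVars false
set_option backward.isDefEq.respectTransparency false
set_option maxHeartbeats 1000000
set_option synthInstance.maxHeartbeats 400000

universe u

open WithConv
open scoped TensorProduct

noncomputable section

namespace Groth.Agent.SemiStab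

open BorelLib
attribute [local instance] pTop pTopTensor

variable {k : Type u} [Field k] [IsAlgClosed k] {A : Type u} [CommRing A] [HopfAlgebra k A] [Algebra.FiniteType k A]

theorem isClosed_one : IsClosed ({(1 : Pt k A)} : Set (Pt k A)) := by
  have e : ({1} : Set (Pt k A)) = toP ⁻¹' {toP (1 : Pt k A)} := by
    ext x
    exact ⟨fun h => congrArg toP (Set.mem_singleton_iff.1 h), fun h => toP_injective h⟩
  rw [e]
  exact ((PrimeSpectrum.isClosed_singleton_iff_isMaximal _).2 (isClosed_toP _)).preimage continuous_induced_dom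

/-- A subgroup with finitely many points which is connected is trivial. -/
theorem eq_bot_of_finite {S : Subgroup (Pt k A)} (hS : IsPreconnected (S : Set (Pt k A)))
    (hf : (S : Set (Pt k A)).Finite) : S = ⊥ := by
  haveI : T1Space (Pt k A) := ⟨fun x => by
    have e : ({x} : Set (Pt k A)) = toP ⁻¹' {toP x} := by
      ext y
      exact ⟨fun h => congrArg toP (Set.mem_singleton_iff.1 h), fun h => toP_injective h⟩
    rw [e]
    exact ((PrimeSpectrum.isClosed_singleton_iff_isMaximal _).2 (isClosed_toP _)).preimage continuous_induced_dom⟩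
  refine (Subgroup.eq_bot_iff_forall _).2 fun x hx => ?_
  by_contra hne
  exact (hS.infinite_of_nontrivial ⟨1, S.one_mem, x, hx, Ne.symm hne⟩) hf

/-- A torus of points without non-trivial torsion is trivial. -/
theorem eq_bot_of_torsionFree {S : Subgroup (Pt k A)} (hS : IsTor S)
    (h : ∀ x ∈ S, IsPT x → x = 1) : S = ⊥ := by
  refine (Subgroup.eq_bot_iff_forall _).2 fun x hx => ?_
  have : x ∈ closure ({(1 : Pt k A)} : Set (Pt k A)) := closure_mono (fun y hy => h y hy.1 hy.2) (hS.dense hx)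
  rwa [isClosed_one.closure_eq] at this

variable (U T : Subgroup (Pt k A)) (f : Pt k A →* Pt k A)

/-- A closed subgroup of `U ⋊ T` meeting `U` trivially all of whose conjugates under `U` meet `T` in finite groups is
finite. -/
theorem finite_of_forall (hUc : IsClosed (U : Set (Pt k A))) (hU : IsPreconnected (U : Set (Pt k A)))
    (hUtf : ∀ x ∈ U, IsPT x → x = 1) (hT : IsTor T) (hf : IsMor f) (hfT : ∀ g, f g ∈ T)
    (hfid : ∀ t ∈ T, f t = t) (hker : ∀ g, f g = 1 ↔ g ∈ U) {H : Subgroup (Pt k A)}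
    (hHc : IsClosed (H : Set (Pt k A))) (hHU : ∀ g ∈ H, g ∈ U → g = 1)
    (hfin : ∀ u ∈ U, ((conjSub u H ⊓ T : Subgroup (Pt k A)) : Set (Pt k A)).Finite) :
    (H : Set (Pt k A)).Finite := by
  obtain ⟨hUsol, hUuni⟩ := uni_of_noTor hUc hU fun S hSU hS =>
    eq_bot_of_torsionFree hS fun x hx => hUtf x (hSU hx)
  have hdec : ∀ g, g * (f g)⁻¹ ∈ U := fun g => (hker _).1 (by rw [map_mul, map_inv, hfid _ (hfT g), mul_inv_cancel])
  have htopc : IsClosed ((⊤ : Subgroup (Pt k A)) : Set (Pt k A)) := by rw [Subgroup.coe_top]; exact isClosed_univ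
  have htop : IsPreconnected ((⊤ : Subgroup (Pt k A)) : Set (Pt k A)) := by
    refine isPreconnected_of_forall 1 fun g _ => ?_
    refine ⟨(T : Set (Pt k A)) ∪ (fun x => x * f g) '' (U : Set (Pt k A)), fun _ _ => Subgroup.mem_top _,
      Or.inl T.one_mem, Or.inr ⟨g * (f g)⁻¹, hdec g, inv_mul_cancel_right g (f g)⟩, ?_⟩
    exact hT.conn.union' ⟨f g, hfT g, 1, U.one_mem, one_mul _⟩
      (hU.image _ (continuous_mul_const (f g)).continuousOn)
  have hder : der (⊤ : Subgroup (Pt k A)) 1 ≤ U := by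
    rw [der_succ, der_zero]
    refine Subgroup.commutator_le.2 fun a _ b _ => (hker _).1 ?_
    rw [map_commutatorElement, commutatorElement_eq_one_iff_mul_comm]
    exact hT.comm _ (hfT a) _ (hfT b)
  have hsol : IsSol (⊤ : Subgroup (Pt k A)) := by
    obtain ⟨n, hn⟩ := hUsol
    refine ⟨n + 1, le_bot_iff.1 ?_⟩
    rw [der_succ', ← hn]
    exact der_mono (by rw [der_succ, der_zero] at hder; exact hder) n
  obtain ⟨D⟩ := exists_flagRep htop hsol
  obtain ⟨S₀, -, hS₀, hconj, -, -⟩ := D.exists_torus_decomp htopc htop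
  obtain ⟨g₀, -, hg₀⟩ := hconj T le_top hT
  -- `T` is conjugate to `S₀`
  have hmax : conjSub g₀⁻¹ S₀ ≤ T := by
    intro x hx
    have hTle : T ≤ conjSub g₀⁻¹ S₀ := fun t ht => mem_conjSub.2 (by
      rw [inv_inv]
      exact hg₀ (mem_conjSub.2 (by simpa [_root_.mul_assoc] using ht)))
    have hu : x * (f x)⁻¹ ∈ conjSub g₀⁻¹ S₀ := mul_mem hx (inv_mem (hTle (hfT x)))
    have := (hUuni _ (hdec x)).eq_one (hS₀.conjSub g₀⁻¹) hu
    rw [mul_inv_eq_one] at this
    rw [this]
    exact hfT x
  -- no non-trivial torus in `H`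
  have hnoTor : ∀ S : Subgroup (Pt k A), S ≤ neut H → IsTor S → S = ⊥ := by
    intro S hSH hS
    obtain ⟨g₁, -, hg₁⟩ := hconj S le_top hS
    set c := g₀⁻¹ * g₁ with hc
    have hc' : ∀ s ∈ S, c * s * c⁻¹ ∈ T := fun s hs => hmax (mem_conjSub.2 (by
      have h1 : g₁ * s * g₁⁻¹ ∈ S₀ := hg₁ (mem_conjSub.2 (by simpa [_root_.mul_assoc] using hs))
      simpa [hc, _root_.mul_assoc] using h1))
    set u := (f c)⁻¹ * c with hu
    have huU : u ∈ U := (hker _).1 (by rw [hu, map_mul, map_inv, hfid _ (hfT c), inv_mul_cancel])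
    have hsub : conjSub u S ≤ conjSub u H ⊓ T := by
      intro x hx
      refine ⟨conjSub_mono (le_trans hSH (neut_le H)) hx, ?_⟩
      have hs := mem_conjSub.1 hx
      have h1 := T.mul_mem (T.mul_mem (T.inv_mem (hfT c)) (hc' _ hs)) (hfT c)
      simpa [hu, _root_.mul_assoc] using h1
    have := eq_bot_of_finite (hS.conjSub u).conn ((hfin u huU).subset hsub)
    refine (Subgroup.eq_bot_iff_forall _).2 fun s hs => ?_
    have h1 : u * s * u⁻¹ ∈ conjSub u S := mem_conjSub.2 (by simpa [_root_.mul_assoc] using hs)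
    rw [this, Subgroup.mem_bot, conj_eq_one_iff] at h1
    exact h1
  obtain ⟨-, huni⟩ := uni_of_noTor (isClosed_neut hHc) (isPreconnected_neut H) hnoTor
  have hbot : ∀ x ∈ neut H, x = 1 := fun x hx => by
    refine hHU x (neut_le H hx) ((hker x).1 ?_)
    exact ((huni x hx).map f hf).eq_one hT (hfT x)
  obtain ⟨F, -, hcov⟩ := exists_neut_cosets hHc
  refine F.finite_toSet.subset fun g hg => ?_
  obtain ⟨r, hr, h⟩ := hcov g hg
  rw [← inv_mul_eq_one.1 (hbot _ h)]
  exact hr

end Groth.Agent.SemiStab
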