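import Groth.Agent.SemiStabLib.Main
import Groth.Agent.SepRadLib.Descent
import Groth.Agent.GITAffLib.Stab
import Groth.Agent.BorelLib.RedGeom
import Groth.Prelude.Def_ActBC

/-!
# Finite stabilisers for `U ⋊ T`: passing to geometric points
-/

set_option autoImplicit false
set_option linter.style.haveILetI false
set_option linter.unusedSectionVars false
set_option backward.isDefEq.respectTransparency false
set_option backward.isDefEq.respectTransparency.types false
set_option maxHeartbeats 1000000
set_option synthInstance.maxHeartbeats 400000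

universe u

open CategoryTheory CategoryTheory.Limits MonoidalCategory CartesianMonoidalCategory AlgebraicGeometry WithConv
open scoped MonObj
open CoactBr (sp)

noncomputable section

attribute [-instance] CategoryTheory.Hom.commGroup

namespace Groth.Agent.SemiStab

open BorelLib
attribute [local instance] pTop pTopTensor

section uni

variable {k : Type u} [Field k] [IsAlgClosed k] [CharZero k] {A : Type u} [CommRing A] [HopfAlgebra k A]
  [Algebra.FiniteType k A]

/-- A unipotent element of finite order is trivial in characteristic zero. -/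
theorem eq_one_of_uni_pow {x : Pt k A} (hu : IsUni x) {m : ℕ} (hm : m ≠ 0) (hx : x ^ m = 1) : x = 1 := by
  obtain ⟨V, _, _, _, r, hr⟩ := exists_faithful (k := k) (A := A)
  refine hr x ?_
  obtain ⟨M, hM⟩ := hu V r
  have hpow : ∀ i : ℕ, r.ρ (x ^ i) = r.ρ x ^ i := by
    intro i
    induction i with
    | zero => rw [pow_zero, pow_zero, r.map_one]
    | succ i ih => rw [pow_succ, pow_succ, r.map_mul _ trivial _ trivial, ih]
  set a := r.ρ x with ha
  set N := a - 1 with hN
  have hNn : IsNilpotent N := ⟨M, hM⟩
  have hS : (∑ i ∈ Finset.range m, a ^ i) * N = 0 := by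
    rw [hN, geom_sum_mul, ← hpow, hx, r.map_one, sub_self]
  have hca : Commute a N := ((Commute.refl a).sub_right (Commute.one_right a))
  set Q := ∑ i ∈ Finset.range m, ∑ j ∈ Finset.range i, a ^ j with hQ
  have hQN : Commute Q N := Commute.sum_left _ _ _ fun i _ => Commute.sum_left _ _ _ fun j _ => hca.pow_left j
  have hSQ : ∑ i ∈ Finset.range m, a ^ i = algebraMap k (Module.End k V) (m : k) + Q * N := by
    rw [hQ, Finset.sum_mul, map_natCast]
    simp only [hN, geom_sum_mul, Finset.sum_sub_distrib, Finset.sum_const, Finset.card_range, nsmul_eq_mul, mul_one]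
    abel
  have hunit : IsUnit (∑ i ∈ Finset.range m, a ^ i) := by
    rw [hSQ]
    exact (hQN.isNilpotent_mul_left hNn).isUnit_add_left_of_commute
      ((IsUnit.mk0 (m : k) (Nat.cast_ne_zero.2 hm)).map _) (Algebra.commutes (m : k) (Q * N)).symm
  exact sub_eq_zero.1 (hunit.mul_right_eq_zero.1 hS)

end uni

variable {k : Type u} [Field k] [IsAlgClosed k] [CharZero k] {Ω : Type u} [Field Ω] [IsAlgClosed Ω]

/-- A connected group without subtorus has no torsion geometric point in characteristic zero. -/
theorem torsionFree {G U : Over (Spec (CommRingCat.of k))} [GrpObj G] [GrpObj U]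
    [IsAffine G.left] [Smooth G.hom] (iU : U ⟶ G) [IsMonHom iU] [IsClosedImmersion iU.left]
    [Smooth U.hom] [ConnectedSpace U.left] (hU : Red.HasNoSubtorus k U)
    (P : Over (Spec (CommRingCat.of k))) [AlgebraicGeometry.IsReduced P.left] {m : ℕ} (hm : m ≠ 0)
    (x : P ⟶ U) (hx : x ^ m = 1) : x = 1 := by
  obtain ⟨A, _, _, v, hv, hft, -⟩ := BorelLib.exists_setup G
  haveI := hv; haveI := hft
  haveI : IsSeparated U.hom := Groth.Agent.GrpField.isSeparated_grp (G := U)
  have huni := BorelLib.uni_of_hasNoSubtorus v iU hU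
  have hrat : ∀ y : RPt U, y ^ m = 1 → y = 1 := by
    intro y hy
    haveI : Mono iU := DiagRep.mono_of_isClosedImmersion iU inferInstance
    have hmem : (ptEquiv v).symm (y ≫ iU) ∈ ptsSub v iU :=
      (mem_ptsSub v).2 ⟨y, ((ptEquiv v).apply_symm_apply _).symm⟩
    have h1 : (ptEquiv v).symm (y ≫ iU) = 1 := eq_one_of_uni_pow (huni _ hmem) hm (by
      rw [← map_pow]
      have h2 : (y ≫ iU) ^ m = 1 := by
        rw [show y ≫ iU = ptHom iU y from rfl, ← map_pow, hy, map_one]
      rw [h2, map_one])
    rw [← cancel_mono iU, MonObj.one_comp]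
    exact (ptEquiv v).symm.injective (h1.trans (map_one _).symm)
  haveI : JacobsonSpace U.left := LocallyOfFiniteType.jacobsonSpace U.hom
  haveI : Subsingleton (𝟙_ (Over (Spec (CommRingCat.of k)))).left := inferInstanceAs (Subsingleton (PrimeSpectrum k))
  have hηw : η[U].left ≫ U.hom = 𝟙 _ := (Over.w η[U]).trans rfl
  haveI : IsClosedImmersion η[U].left := isClosedImmersion_of_comp_eq_id _ _ hηw
  have hηc : IsClosed (Set.range η[U].left) := η[U].left.isClosedEmbedding.isClosed_range
  let φ : U ⟶ U := 𝟙 U ^ m
  have hEc : IsClosed (φ.left ⁻¹' Set.range η[U].left) := hηc.preimage φ.left.continuous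
  have hsub : φ.left ⁻¹' Set.range η[U].left ⊆ Set.range η[U].left := by
    conv_lhs => rw [← hEc.closure_eq, ← JacobsonSpace.closure_inter_closedPoints_eq_closure hEc.isLocallyClosed]
    refine closure_minimal ?_ hηc
    rintro z ⟨⟨o, ho⟩, hzc⟩
    let y : RPt U := Over.homMk (pointOfClosedPoint U.hom z hzc) (pointOfClosedPoint_comp _ z hzc)
    have hyz : y.left (IsLocalRing.closedPoint k) = z := pointOfClosedPoint_apply _ z hzc _
    have h3 : y ≫ φ = η[U] := Over.OverMorphism.ext (ext_of_apply_closedPoint_eq U.hom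
      ((Over.w (y ≫ φ)).trans rfl) hηw (by
        show φ.left (y.left (IsLocalRing.closedPoint k)) = η[U].left _
        exact ((congrArg φ.left hyz).trans ho.symm).trans (congrArg η[U].left (Subsingleton.elim _ _))))
    have h1 : (1 : RPt U) = η[U] := by
      rw [Hom.one_def]
      exact (congrArg (· ≫ η[U]) (toUnit_unique (toUnit _) (𝟙 _))).trans (Category.id_comp _)
    have h2 : y = 1 := hrat y (by rw [← Category.comp_id y, ← MonObj.comp_pow, h3, h1])
    exact ⟨IsLocalRing.closedPoint k, by rw [← h1, ← h2]; exact hyz⟩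
  have h4 : x ≫ φ = toUnit P ≫ η[U] := by
    rw [MonObj.comp_pow, Category.comp_id, hx, Hom.one_def]
  have hrange : Set.range x.left ⊆ Set.range η[U].left := by
    rintro _ ⟨q, rfl⟩
    exact hsub ⟨(toUnit P).left q, (congrArg (fun r => r.left q) h4).symm⟩
  obtain ⟨l, hl⟩ := AVAmpleLib.exists_lift_of_reduced η[U].left x.left hrange
  refine Over.OverMorphism.ext ?_
  rw [← hl, Hom.one_def, Over.comp_left]
  congr 1
  have h5 : l ≫ (η[U].left ≫ U.hom) = (toUnit P).left ≫ (η[U].left ≫ U.hom) := by
    rw [← Category.assoc, hl, Over.w x, Over.w η[U], Over.w (toUnit P)]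
  rw [hηw, Category.comp_id, Category.comp_id] at h5
  exact h5

end Groth.Agent.SemiStab
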